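/-
F-sets for the prime two (helper46, S3617): the structure of the subgroups generated by members, and quotients of
two points that are involutions.
-/
import Cfsg.Agent.FSet2.Base

set_option autoImplicit false

open Cfsg Subgroup CL.Grp CL.Even Function
open CL.FSet hiding Hyp Min Mx Cx exists_mx key not_cx main main_aux
open scoped commutatorElement Pointwise

namespace CL.FS2

variable {G : Type*} [Group G] {p : ℕ} {D : Set (Subgroup G)} {A B H K W Y Y' : Subgroup G} {a b d g l r s t u x y z : G}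

theorem comm_of_sq (ha : a * a = 1) (hb : b * b = 1) (h : a * b * (a * b) = 1) : Commute a b := by
  have := eq_inv_of_mul_eq_one_left h
  rwa [mul_inv_rev, inv_eq_of_mul_eq_one_right ha, inv_eq_of_mul_eq_one_right hb] at this

theorem cl2 {S : Set G} (h1 : ∀ a ∈ S, a * a = 1) (h2 : ∀ a ∈ S, ∀ b ∈ S, Commute a b) :
    IsPGroup 2 (closure S) := by
  have c : closure S ≤ 𝒞(closure S) := by
    rw [centralizer_closure]; exact (closure_le _).2 fun a ha b hb => h2 b hb a ha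
  refine fun ⟨g, hg⟩ => ⟨1, Subtype.ext (show g ^ 2 ^ 1 = 1 from ?_)⟩
  rw [pow_one, sq]
  induction hg using closure_induction with
  | mem a ha => exact h1 a ha
  | one => exact one_mul 1
  | mul a b ha hb k1 k2 => rw [mul_assoc, ← mul_assoc b, ← c hb a ha, mul_assoc, k2, mul_one, k1]
  | inv a _ k => rw [← mul_inv_rev, k, inv_one]

theorem cjz (g x : G) : cj g (zpowers x) = zpowers (g * x * g⁻¹) := MonoidHom.map_zpowers _ _

theorem mem_cz : g ∈ 𝒞(zpowers x) ↔ Commute g x :=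
  ⟨fun h => (h x (mem_zpowers x)).symm, fun h _ ⟨i, j⟩ => j ▸ (h.zpow_right i).symm⟩

namespace Hyp

theorem pt (h : Hyp p 2 D) (hx : zpowers x ∈ D) (g : G) : zpowers (g * x * g⁻¹) ∈ D := cjz g x ▸ h.inv _ hx g

theorem zp (h : Hyp p 2 D) (hA : A ∈ D) : ∃ x, zpowers x = A :=
  let ⟨x, hx, x1⟩ := h.ex hA; ⟨x, le_antisymm (zpowers_le.2 hx) (h.le_of_mem hA hx x1 (mem_zpowers x))⟩

variable [Finite G]

theorem pst (h : Hyp p 2 D) (s : Sub 2 D H) (hx : zpowers x ∈ D) (a : x ∈ H) (hu : u ∈ dr H) (k : Commute u x) :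
    u ∈ dr (dr H) := h.stab s hx (zpowers_le.2 a) hu (cent_le_norm _ (mem_cz.2 k))

theorem sq1 (h : Hyp p 2 D) (s : Sub 2 D H) (hA : A ∈ D) (a : A ≤ H) (hu : u ∈ dr H) : u * u ∈ dr (dr H) := by
  let S : Subgroup G :=
    { carrier := {u | u ∈ dr H ∧ u * u ∈ dr (dr H)}
      one_mem' := ⟨one_mem _, by simp⟩
      inv_mem' := fun k => ⟨inv_mem k.1, by rw [← mul_inv_rev]; exact inv_mem k.2⟩
      mul_mem' := fun {u v} k j => ⟨mul_mem k.1 j.1, by
        rw [show u * v * (u * v) = u * u * ⁅u⁻¹, v⁆ * (v * v) by simp only [commutatorElement_def]; group]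
        exact mul_mem (mul_mem k.2 (commutator_mem_commutator (inv_mem k.1) j.1)) j.2⟩ }
  refine ((h.br s.gen hA a).ge.trans (commutator_le.2 fun v hv c hc => (?_ : ⁅v, c⁆ ∈ S)) hu).2
  have m : ⁅v, c⁆ ∈ dr H := commutator_mem_commutator (dr_le _ hv) (a hc)
  have hB := h.inv A hA v
  obtain ⟨w, w1, e, e1, e2⟩ := h.dec (dg_line hA hB) hA le_sup_left (g := ⁅v, c⁆)
    (mul_mem (mem_sup_right (conj_mem_cj v hc)) (mem_sup_left (inv_mem hc)))
  rw [disjoint_def.1 (h.disj hA h.qp h.pq s.der) e1 ((mul_mem_cancel_left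
    (dr_mono (sup_le a (cj_le_of_mem a (dr_le _ hv))) w1)).1 (e2 ▸ m)), mul_one] at e2
  exact ⟨m, h.stab s hA a (mul_mem m m) (cent_le_norm _ (h.sq rfl A hA _ hB _ (e2 ▸ w1)))⟩

theorem sq2 (h : Hyp p 2 D) (hb : Alt 2 D) (s : Sub 2 D H) (hA : A ∈ D) (a : A ≤ H) (hz : z ∈ dr (dr H)) :
    z * z = 1 := by
  have c := h.cen hb s
  let S : Subgroup G :=
    { carrier := {u | u ∈ dr (dr H) ∧ u * u = 1}
      one_mem' := ⟨one_mem _, by simp⟩
      inv_mem' := fun k => ⟨inv_mem k.1, by rw [← mul_inv_rev, k.2, inv_one]⟩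
      mul_mem' := fun {u v} k j => ⟨mul_mem k.1 j.1, by
        rw [mul_assoc, ← mul_assoc v, c k.1 v (dr_le _ (dr_le _ j.1)), mul_assoc, j.2, mul_one, k.2]⟩ }
  refine ((commutator_le.2 fun v hv w hw => (?_ : ⁅v, w⁆ ∈ S)) hz).2
  have m := commutator_mem_commutator hv hw
  refine ⟨m, ?_⟩
  calc _ = v * ⁅v, w⁆ * v⁻¹ * ⁅v, w⁆ := by rw [c m v (dr_le _ hv), mul_inv_cancel_right]
    _ = v * v * w * (v * v)⁻¹ * w⁻¹ := by simp only [commutatorElement_def]; group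
    _ = 1 := by rw [← c (h.sq1 s hA a hv) w (dr_le _ hw)]; group

theorem dcm (h : Hyp p 2 D) (s : Sub 2 D H) (hx : zpowers x ∈ D) (a : x ∈ H) (hu : u ∈ dr H) :
    ∃ v ∈ dr H, ⁅v, x⁆⁻¹ * u ∈ dr (dr H) := by
  have nx : x ∈ 𝒩(dr H) := n_dr le_normalizer a
  have cm : ∀ v ∈ dr H, ⁅v, x⁆ ∈ dr H := fun v hv => commutator_mem_commutator (dr_le _ hv) a
  let S : Subgroup G :=
    { carrier := {u | ∃ v ∈ dr H, ⁅v, x⁆⁻¹ * u ∈ dr (dr H)}
      one_mem' := ⟨1, one_mem _, by simp⟩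
      inv_mem' := fun {u} ⟨v, k1, k2⟩ => ⟨v, k1, by
        have := mul_mem k2 (inv_mem (h.sq1 s hx (zpowers_le.2 a)
          ((mul_mem_cancel_left (inv_mem (cm v k1))).1 (dr_le _ k2))))
        rwa [mul_inv_rev, mul_assoc, mul_inv_cancel_left] at this⟩
      mul_mem' := fun {u w} ⟨v, k1, k2⟩ ⟨v', j1, j2⟩ => ⟨v * v', mul_mem k1 j1, by
        have := mul_mem (mul_mem (commutator_mem_commutator (mul_mem (inv_mem (cm v k1)) k1) (inv_mem (cm v' j1)))
          (conj_mem (n_dr le_normalizer (inv_mem (cm v' j1))) k2)) j2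
        convert this using 1
        simp only [commutatorElement_def]; group⟩ }
  exact (h.br s.gen hx (zpowers_le.2 a)).ge.trans (commutator_le_of_le_cmod (U := S) (zpowers_le.2 (mem_cmod.2
    ⟨mem_normalizer_fintype fun w ⟨v, k1, k2⟩ => ⟨_, conj_mem nx k1, by
      convert conj_mem (n_dr (n_dr le_normalizer) a) k2 using 1
      simp [commutatorElement_def, mul_assoc]⟩, fun v hv => ⟨v, hv, by rw [inv_mul_cancel]; exact one_mem _⟩⟩))) hu

end Hyp

namespace Min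

theorem ptr (h : Min p 2 D) (hA : A ∈ D) (a : A ≤ H) (b : cj g A ≤ H) :
    ∃ k ∈ dr H, ∀ x ∈ A, k * x * k⁻¹ = g * x * g⁻¹ := by
  obtain ⟨k, k1, k2⟩ := h.tr hA (h.inv A hA g) a b
  refine ⟨k, k1, fun x hx => ?_⟩
  have := h.nc A hA (mem_inf.2 ⟨h.gen.ge (mem_top (g⁻¹ * k)), by
    rw [← cj_eq_iff_mem, cj_mul, k2, cj_inv_cj]⟩) x hx
  calc _ = g * (g⁻¹ * k * x) * k⁻¹ := by group
    _ = _ := by rw [← this]; group

theorem pcm (h : Min p 2 D) (hA : A ∈ D) (a : A ≤ H) (b : cj g A ≤ H) (hx : x ∈ A) : ⁅g, x⁆ ∈ dr H := by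
  obtain ⟨k, k1, k2⟩ := h.ptr hA a b
  rw [commutatorElement_def, ← k2 x hx]
  exact commutator_mem_commutator (dr_le _ k1) (a hx)

theorem ptr' (h : Min p 2 D) (hx : zpowers x ∈ D) (a : x ∈ H) (b : g * x * g⁻¹ ∈ H) :
    ∃ k ∈ dr H, k * x * k⁻¹ = g * x * g⁻¹ :=
  (h.ptr hx (zpowers_le.2 a) (cjz g x ▸ zpowers_le.2 b)).imp fun _ k => ⟨k.1, k.2 x (mem_zpowers x)⟩

theorem pcm' (h : Min p 2 D) (hx : zpowers x ∈ D) (a : x ∈ H) (b : g * x * g⁻¹ ∈ H) : ⁅g, x⁆ ∈ dr H :=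
  h.pcm hx (zpowers_le.2 a) (cjz g x ▸ zpowers_le.2 b) (mem_zpowers x)

variable [Finite G]

/-- not all quotients of two points are involutions -/
theorem one (h : Min p 2 D) (hx : zpowers x ∈ D) : ∃ g : G, ⁅g, x⁆ * ⁅g, x⁆ ≠ 1 := by
  by_contra! k
  have e := h.oq (closure (Set.range fun g => ⁅g, x⁆)) (cl2 (by rintro _ ⟨g, rfl⟩; exact k g) (by
    rintro _ ⟨g, rfl⟩ _ ⟨l, rfl⟩
    refine comm_of_sq (k g) (k l) ?_
    have e : ⁅g, x⁆ * ⁅l, x⁆ = l * ⁅l⁻¹ * g, x⁆ * l⁻¹ := by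
      rw [← inv_eq_of_mul_eq_one_right (k l)]; simp only [commutatorElement_def]; group
    rw [e, conj_mul, k]; simp)) (top_le_iff.1 fun l _ => mem_norm_of_cj_le (cj_le_iff.2 ((closure_le _).2 (by
      rintro _ ⟨g, rfl⟩
      refine mem_cj.2 ?_
      rw [show l⁻¹⁻¹ * ⁅g, x⁆ * l⁻¹ = ⁅l * g, x⁆ * ⁅l, x⁆⁻¹ by simp only [commutatorElement_def]; group]
      exact mul_mem (subset_closure ⟨_, rfl⟩) (inv_mem (subset_closure ⟨_, rfl⟩))))))
  obtain ⟨a, ha, a1⟩ := h.ex hx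
  exact h.cne a1 (top_le_iff.1 fun g _ => le_c.2 (mem_cz.2 (commutatorElement_eq_one_iff_commute.1
    (mem_bot.1 (e.le (subset_closure ⟨g, rfl⟩))))) ha |> fun j => mem_centralizer_singleton_iff.2
      (mem_centralizer_singleton_iff.1 j).symm)

theorem mx (h : Min p 2 D) (ng : ¬ IsPGroup 2 (dr (⊤ : Subgroup G))) (hA : A ∈ D) (hB : B ∈ D) :
    ∃ Y, Mx D Y ∧ A ⊔ B ≤ Y := exists_mx (dg_line hA hB) fun e => ng (e ▸ h.lq A hA B hB)

theorem alt' (h : Min p 2 D) (hx : zpowers x ∈ D) : Alt 2 D := h.alt.resolve_left fun k =>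
  let ⟨g, e⟩ := h.one hx
  e (mem_bot.1 ((k _ hx _ (h.pt hx g)).le (h.sq1 (h.line hx (h.pt hx g)) hx le_sup_left
    (h.pcm' hx (mem_sup_left (mem_zpowers x)) (mem_sup_right (mem_zpowers _))))))

/-- two quotients that are involutions commute or lie in a centraliser -/
theorem dih (h : Min p 2 D) (hx : zpowers x ∈ D) (kg : ⁅g, x⁆ * ⁅g, x⁆ = 1) (kl : ⁅l, x⁆ * ⁅l, x⁆ = 1)
    (n : ¬ Commute ⁅g, x⁆ ⁅l, x⁆) :
    ∃ d, d ≠ 1 ∧ Commute d x ∧ Commute d (g * x * g⁻¹) ∧ Commute d (l * x * l⁻¹) := by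
  have s := h.line (h.pt hx l) (h.pt hx g)
  have m : ⁅g, x⁆ * ⁅l, x⁆ ∈ dr (zpowers (l * x * l⁻¹) ⊔ zpowers (g * x * g⁻¹)) := by
    have := h.pcm' (H := zpowers (l * x * l⁻¹) ⊔ zpowers (g * x * g⁻¹)) (g := g * l⁻¹) (h.pt hx l)
      (mem_sup_left (mem_zpowers _)) (mem_sup_right (by convert mem_zpowers _ using 1; group))
    convert this using 1
    rw [← inv_eq_of_mul_eq_one_right kl]; simp only [commutatorElement_def]; group
  have m1 := h.sq1 s (h.pt hx l) le_sup_left m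
  have m2 := h.sq2 (h.alt' hx) s (h.pt hx l) le_sup_left m1
  have c := h.cen (h.alt' hx) s m1
  have c1 : Commute (g * x * g⁻¹) _ := c _ (mem_sup_right (mem_zpowers _))
  refine ⟨_, fun e => n (comm_of_sq kg kl e), ?_, c1.symm, (c _ (mem_sup_left (mem_zpowers _))).symm⟩
  have e : x = ⁅g, x⁆⁻¹ * (g * x * g⁻¹) := by simp only [commutatorElement_def]; group
  have c2 : Commute (⁅g, x⁆ * ⁅l, x⁆ * (⁅g, x⁆ * ⁅l, x⁆)) ⁅g, x⁆ := by
    generalize ⁅g, x⁆ = a at *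
    generalize ⁅l, x⁆ = b at *
    have := inv_eq_of_mul_eq_one_right m2
    rw [mul_inv_rev, mul_inv_rev, inv_eq_of_mul_eq_one_right kg, inv_eq_of_mul_eq_one_right kl] at this
    calc _ = a * (b * a * (b * a)) := by group
      _ = _ := by rw [this]
  have := c2.inv_right.mul_right c1.symm
  rwa [← e] at this

/-- a point whose quotient by `x` is an involution lies in every maximal non-metabelian subgroup through `x` -/
theorem inc (h : Min p 2 D) (m : Mx D Y) (hx : zpowers x ∈ D) (a : x ∈ Y) (ht : t ∈ dr (dr Y)) (t1 : t ≠ 1)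
    (k : ⁅g, x⁆ * ⁅g, x⁆ = 1) : g * x * g⁻¹ ∈ Y := by
  have := Fact.mk h.qp
  have hb := h.alt' hx
  have sY := h.sb m.gen m.ne
  have tx : x * t = t * x := h.cen hb sY ht x a
  have t2 := h.sq2 hb sY hx (zpowers_le.2 a) ht
  by_cases s1 : ⁅g, x⁆ = 1
  · rwa [mul_inv_eq_one.1 s1]
  have cc : ∀ c, x * c = c * x → ⁅c * g, x⁆ = c * ⁅g, x⁆ * c⁻¹ := fun c e => by
    calc _ = c * (g * x * g⁻¹) * (x * c)⁻¹ := by simp only [commutatorElement_def]; group
      _ = _ := by rw [e]; simp only [commutatorElement_def]; group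
  have c2 : ∀ c, x * c = c * x → ⁅c * g, x⁆ * ⁅c * g, x⁆ = 1 := fun c e => by rw [cc c e, conj_mul, k]; simp
  have hy := h.pt hx g
  have hz := h.pt hx (t * g)
  set W := zpowers x ⊔ (zpowers (g * x * g⁻¹) ⊔ zpowers (t * g * x * (t * g)⁻¹)) with hW
  have wl : ∀ K : Subgroup G, x ∈ K → g * x * g⁻¹ ∈ K → t * g * x * (t * g)⁻¹ ∈ K → W ≤ K := fun K a b c =>
    sup_le (zpowers_le.2 a) (sup_le (zpowers_le.2 b) (zpowers_le.2 c))
  have w1 : x ∈ W := mem_sup_left (mem_zpowers _)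
  have w2 : g * x * g⁻¹ ∈ W := mem_sup_right (mem_sup_left (mem_zpowers _))
  have w3 : t * g * x * (t * g)⁻¹ ∈ W := mem_sup_right (mem_sup_right (mem_zpowers _))
  by_contra ny
  refine not_cx (W := W) h hb m hx (zpowers_le.2 a) ⟨le_antisymm dg_le (wl _ (le_dg hx le_sup_left (mem_zpowers _))
    (le_dg hy (zpowers_le.2 w2) (mem_zpowers _)) (le_dg hz (zpowers_le.2 w3) (mem_zpowers _))), ?_, le_sup_left,
    fun e => t1 (mem_bot.1 (e.le (mem_inf.2 ⟨ht, mem_norm_of_cj_le (cj_le_iff.2 (wl _ (mem_cj.2 ?_) (mem_cj.2 ?_)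
      (mem_cj.2 ?_)))⟩))), fun e => ny (e w2)⟩
  rotate_left
  · rwa [inv_inv, ← tx, mul_inv_cancel_right]
  · convert w3 using 1; group
  · convert w2 using 1
    calc _ = t * t * (g * x * g⁻¹) * (t * t)⁻¹ := by group
      _ = _ := by rw [t2]; simp
  by_cases c : ∀ i ∈ zpowers x, Commute ⁅i * g, x⁆ ⁅t * g, x⁆
  · set V := closure ((fun i => ⁅i * g, x⁆) '' zpowers x) with hV
    have xi : ∀ i ∈ zpowers x, x * i = i * x := fun i hi => h.comm hx hi x (mem_zpowers x)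
    have nV : x ∈ 𝒩(V) := mem_norm_of_cj_le (cj_le_iff.2 ((closure_le _).2 (by
      rintro _ ⟨i, hi, rfl⟩
      refine mem_cj.2 (subset_closure ⟨x * i, mul_mem (mem_zpowers x) hi, ?_⟩)
      simp only [commutatorElement_def]; group)))
    have pV : IsPGroup 2 V := (h.lq _ hx _ hy).to_le ((closure_le _).2 (by
      rintro _ ⟨i, hi, rfl⟩
      exact h.pcm' hx (mem_sup_left (mem_zpowers _)) (by
        convert mul_mem (mul_mem (mem_sup_left hi) (mem_sup_right (mem_zpowers _))) (mem_sup_left (inv_mem hi)) using 1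
        group)))
    have sV : ⁅g, x⁆ ∈ V := subset_closure ⟨1, one_mem _, by simp⟩
    set Q := V ⊔ dr (zpowers x ⊔ zpowers (t * g * x * (t * g)⁻¹)) ⊓ 𝒞(V) with hQ
    have nQ : x ∈ 𝒩(Q) := le_norm_sup (zpowers_le.2 nV) (le_norm_inf (le_sup_left.trans (n_dr le_normalizer))
      (le_norm_cent (zpowers_le.2 nV))) (mem_zpowers x)
    refine ne_top_of_le_ne_top (h.nne (K := Q) (isPGroup_sup' pV (h.lq _ hx _ hz).to_inf_left
      (inf_le_right.trans (cent_le_norm _))) fun e => s1 (mem_bot.1 (e.le (mem_sup_left sV)))) (wl _ nQ ?_ ?_)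
    · have := mul_mem (le_normalizer (mem_sup_left sV : _ ∈ Q)) nQ
      rwa [commutatorElement_def, inv_mul_cancel_right] at this
    · have : ⁅t * g, x⁆ ∈ Q := mem_sup_right ⟨h.pcm' hx (mem_sup_left (mem_zpowers _)) (mem_sup_right (mem_zpowers _)), by
        rw [hV, centralizer_closure]
        rintro _ ⟨i, hi, rfl⟩
        exact c i hi⟩
      have := mul_mem (le_normalizer this) nQ
      rwa [commutatorElement_def, inv_mul_cancel_right] at this
  push Not at c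
  obtain ⟨i, hi, c⟩ := c
  obtain ⟨d, d1, d2, d3, d4⟩ := h.dih hx (c2 i (h.comm hx hi x (mem_zpowers x))) (c2 t tx) c
  refine ne_top_of_le_ne_top (h.cne d1) (wl _ (mem_centralizer_singleton_iff.2 d2.symm)
    (mem_centralizer_singleton_iff.2 ?_) (mem_centralizer_singleton_iff.2 d4.symm))
  have d5 : Commute d i := (mem_cz.2 d2 i hi).symm
  have := (d5.inv_right.mul_right d3).mul_right d5
  rw [show i⁻¹ * (i * g * x * (i * g)⁻¹) * i = g * x * g⁻¹ by group] at this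
  exact this.symm

end Min

end CL.FS2
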