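/-
F-sets for the prime two (helper46, S3617): there is no minimal counterexample.
-/
import Cfsg.Agent.FSet2.Two

set_option autoImplicit false

open Cfsg Subgroup CL.Grp CL.Even Function
open CL.FSet hiding Hyp Min Mx Cx exists_mx key not_cx main main_aux
open scoped commutatorElement Pointwise

namespace CL.FS2

variable {G : Type*} [Group G] {p : ℕ} {D : Set (Subgroup G)} {A B H K W Y Y' : Subgroup G} {a b d g l r s t u x y z : G}

theorem Mx.eq (m : Mx D Y) (m' : Mx D Y') (k : Y ≤ Y') : Y' = Y := m'.gen.symm.trans (m.max Y' m'.ne k)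

namespace Min

variable [Finite G]

theorem lam (h : Min p 2 D) (ng : ¬ IsPGroup 2 (dr (⊤ : Subgroup G))) (m : Mx D Y) (hx : zpowers x ∈ D) (a : x ∈ Y)
    (k : ⁅g, x⁆ * ⁅g, x⁆ = 1) : g * x * g⁻¹ ∈ Y := by
  have z : ∀ {X : Subgroup G}, dr (dr X) ≠ ⊥ → ∃ t ∈ dr (dr X), t ≠ 1 := fun e => by
    by_contra! j
    exact e ((eq_bot_iff_forall _).2 j)
  by_cases e : dr (dr Y) = ⊥
  swap
  · obtain ⟨t, ht, t1⟩ := z e
    exact h.inc m hx a ht t1 k
  obtain ⟨l, e1⟩ := h.one hx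
  obtain ⟨X, m', c⟩ := h.mx ng hx (h.pt hx l)
  have xX : x ∈ X := c (mem_sup_left (mem_zpowers _))
  have e2 : dr (dr X) ≠ ⊥ := fun j => e1 (mem_bot.1 (j.le (h.sq1 (h.sb m'.gen m'.ne) hx (zpowers_le.2 xX)
    (h.pcm' hx xX (c (mem_sup_right (mem_zpowers _)))))))
  obtain ⟨t, ht, t1⟩ := z e2
  refine absurd (m.eq m' (m.gen.ge.trans (dg_le_of fun B hB b => ?_)) ▸ e) e2
  obtain ⟨w, w1, rfl⟩ := h.tr hx hB (zpowers_le.2 a) b
  exact cjz w x ▸ zpowers_le.2 (h.inc m' hx xX ht t1 (mem_bot.1 (e.le (h.sq1 (h.sb m.gen m.ne) hx (zpowers_le.2 a)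
    (commutator_mem_commutator (dr_le _ w1) a)))))

/-- the quotient of two different points is not an involution -/
theorem an (h : Min p 2 D) (ng : ¬ IsPGroup 2 (dr (⊤ : Subgroup G))) (hx : zpowers x ∈ D)
    (k : ⁅g, x⁆ * ⁅g, x⁆ = 1) : ⁅g, x⁆ = 1 := by
  have := Fact.mk h.qp
  set N : Subgroup G := ⨅ (M : Subgroup G) (_ : Mx D M), 𝒩(M) with hN
  have mN : ∀ {v : G}, v ∈ N ↔ ∀ M, Mx D M → v ∈ 𝒩(M) := by simp only [hN, mem_iInf, implies_true]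
  have nN : N.Normal := ⟨fun v hv c => mN.2 fun M m => by
    have := conj_mem_cj c (mN.1 hv _ (m.cj h.toHyp c⁻¹))
    rwa [cj_norm, cj_cj_inv] at this⟩
  have sN : ⁅g, x⁆ ∈ N := mN.2 fun M m => mem_norm_of_cj_le (cj_le_iff.2 (m.gen.ge.trans (dg_le_of fun B hB b => by
    obtain ⟨Y, m', c⟩ := h.mx ng hx hB
    have xY : x ∈ Y := c (mem_sup_left (mem_zpowers _))
    obtain ⟨w, w1, rfl⟩ := h.tr hx hB (zpowers_le.2 xY) (le_sup_right.trans c)
    rw [cjz, zpowers_le] at b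
    have s1 := h.pcm' hx xY (h.lam ng m' hx xY k)
    have e : ⁅w * g * w⁻¹, w * x * w⁻¹⁆ = w * ⁅g, x⁆ * w⁻¹ := (conjugate_commutatorElement _ _ _).symm
    have s2 : w * ⁅g, x⁆ * w⁻¹ ∈ M := e ▸ mul_mem (h.lam ng m (h.pt hx w) b (by rw [e, conj_mul, k]; simp)) (inv_mem b)
    have e1 := h.cen (h.alt' hx) (h.sb m'.gen m'.ne) (commutator_mem_commutator w1 (inv_mem s1)) _
      (mul_mem (mul_mem (dr_le _ w1) xY) (inv_mem (dr_le _ w1)))
    rw [cjz, zpowers_le, mem_cj, inv_inv]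
    convert mul_mem (mul_mem s2 b) (inv_mem s2) using 1
    generalize ⁅g, x⁆ = s at e1
    calc _ = w * s * w⁻¹ * (⁅w, s⁻¹⁆ * (w * x * w⁻¹)) * s⁻¹ := by simp only [commutatorElement_def]; group
      _ = _ := by rw [← e1]; simp only [commutatorElement_def]; group)))
  obtain ⟨Y, m, c⟩ := h.mx ng hx (h.pt hx g)
  have xY := le_sup_left.trans c
  have sY := h.sb m.gen m.ne
  have l : ⁅N, zpowers x⁆ ≤ dr Y := commutator_le.2 fun v hv i hi => h.pcm hx xY (cj_le_of_le xY (mN.1 hv Y m)) hi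
  have l1 := le_core (commutator_le_of_le_norm (le_normalizer_of_normal : zpowers x ≤ 𝒩(N))) (sY.der.to_le l)
    (normalizer_commutator_ge_left _ _)
  rw [h.oq _ (core_isP N) (top_le_iff.1 (le_norm_core le_normalizer_of_normal))] at l1
  have c1 : Commute ⁅g, x⁆ x := commutatorElement_eq_one_iff_commute.1
    (mem_bot.1 (l1 (commutator_mem_commutator sN (mem_zpowers x))))
  have c2 : g * x * g⁻¹ ∈ 𝒩(zpowers x) := cent_le_norm _ (mem_cz.2 (by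
    have := c1.mul_left (Commute.refl x)
    rwa [commutatorElement_def, inv_mul_cancel_right] at this))
  obtain ⟨w, w1, w2⟩ := h.lc _ hx _ (h.pt hx g)
  rw [cj_eq (sup_le le_normalizer (zpowers_le.2 c2) (dr_le _ w1))] at w2
  exact disjoint_def.1 (h.disj hx h.qp h.pq sY.der) (mul_mem (w2.ge (mem_zpowers _)) (inv_mem (mem_zpowers x)))
    (h.pcm' hx (xY (mem_zpowers x)) (c (mem_sup_right (mem_zpowers _))))

theorem sqn (h : Min p 2 D) (ng : ¬ IsPGroup 2 (dr (⊤ : Subgroup G))) (s : Sub 2 D H) (hx : zpowers x ∈ D) (a : x ∈ H)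
    (hu : u ∈ dr H) (k : u * u = 1) : u ∈ dr (dr H) := by
  obtain ⟨v, hv, e⟩ := h.dcm s hx a hu
  have e1 := h.sq2 (h.alt' hx) s hx (zpowers_le.2 a) e
  have e2 := h.cen (h.alt' hx) s (inv_mem e) u (dr_le _ hu)
  rwa [h.an ng hx (g := v) (by
    calc _ = u * (⁅v, x⁆⁻¹ * u)⁻¹ * (u * (⁅v, x⁆⁻¹ * u)⁻¹) := by group
      _ = u * u * (⁅v, x⁆⁻¹ * u * (⁅v, x⁆⁻¹ * u))⁻¹ := by rw [mul_assoc, ← mul_assoc _ u, ← e2]; group
      _ = 1 := by rw [k, e1]; simp), inv_one, one_mul] at e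

theorem dis (h : Min p 2 D) (ng : ¬ IsPGroup 2 (dr (⊤ : Subgroup G))) (m : Mx D Y) (m' : Mx D Y') (n : ¬ Y' ≤ Y)
    (hx : zpowers x ∈ D) (a : x ∈ Y) (hy : zpowers y ∈ D) (b : y ∈ Y') (hu : u ∈ dr Y) (hu' : u ∈ dr Y') : u = 1 := by
  have s := h.sb m.gen m.ne
  have s' := h.sb m'.gen m'.ne
  have k : ∀ w ∈ dr (dr Y), w ∈ dr (dr Y') → w = 1 := fun w k1 k2 => by_contra fun j =>
    n (h.le_of_cen m j (h.cen (h.alt' hx) s k1) m'.gen (h.cen (h.alt' hx) s' k2))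
  have e := k _ (h.sq1 s hx (zpowers_le.2 a) hu) (h.sq1 s' hy (zpowers_le.2 b) hu')
  exact k _ (h.sqn ng s hx a hu e) (h.sqn ng s' hy b hu' e)

theorem cn (h : Min p 2 D) (m : Mx D Y) (hx : zpowers x ∈ D) (hd : d ∈ dr (dr Y)) (d1 : d ≠ 1) (k : Commute r d) :
    r ∈ 𝒩(Y) :=
  m.le_n h.toHyp (h.cne d1) (le_c.2 (h.cen (h.alt' hx) (h.sb m.gen m.ne) hd)) (mem_centralizer_singleton_iff.2 k)

/-- an element of `Y''` moves every point outside `Y` -/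
theorem lt (h : Min p 2 D) (ng : ¬ IsPGroup 2 (dr (⊤ : Subgroup G))) (m : Mx D Y) (hx : zpowers x ∈ D) (a : x ∈ Y)
    (ht : t ∈ dr (dr Y)) (t1 : t ≠ 1) (hy : zpowers y ∈ D) (b : y ∉ Y) :
    ∃ r ∈ dr (zpowers y ⊔ zpowers (t * y * t⁻¹)), r * y * r⁻¹ = t * y * t⁻¹ ∧ Commute r t ∧ r * r ≠ 1 := by
  have hb := h.alt' hx
  have sY := h.sb m.gen m.ne
  have t2 := h.sq2 hb sY hx (zpowers_le.2 a) ht
  have s := h.line hy (h.pt hy t)
  have y1 : y ∈ zpowers y ⊔ zpowers (t * y * t⁻¹) := mem_sup_left (mem_zpowers y)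
  obtain ⟨r, r1, r2⟩ := h.ptr' hy y1 (mem_sup_right (mem_zpowers (t * y * t⁻¹)))
  refine ⟨r, r1, r2, ?_, fun e => b (h.le_of_cen m t1 (h.cen hb sY ht) (le_antisymm dg_le (le_dg hy le_rfl))
    (mem_cz.2 ?_) (mem_zpowers y))⟩
  · have e := h.cen hb s (h.sq1 s hy le_sup_left r1) y y1
    have c : r⁻¹ * t ∈ 𝒞(zpowers y ⊔ zpowers (t * y * t⁻¹)) := (cent_sup _ _).ge <| mem_inf.2 ⟨mem_cz.2 (by
      calc r⁻¹ * t * y = r⁻¹ * (t * y * t⁻¹) * t := by group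
        _ = _ := by rw [← r2]; group), mem_cz.2 (by
      calc r⁻¹ * t * (t * y * t⁻¹) = r⁻¹ * (t * t) * y * (t * t)⁻¹ * t := by group
        _ = r * (r * r)⁻¹ * (y * (r * r)) * (r * r)⁻¹ * t := by rw [t2]; group
        _ = r * y * r⁻¹ * (r⁻¹ * t) := by rw [e]; group
        _ = _ := by rw [r2])⟩
    have := (Commute.refl r).mul_right (c r (dr_le _ r1))
    rwa [mul_inv_cancel_left] at this
  · have := h.cen hb s (h.sqn ng s hy y1 r1 e) y y1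
    rw [← this, mul_inv_cancel_right] at r2
    exact mul_inv_eq_iff_eq_mul.1 r2.symm

theorem false (h : Min p 2 D) (ng : ¬ IsPGroup 2 (dr (⊤ : Subgroup G))) : False := by
  have out : ∀ {X X' : Subgroup G}, dg D X = X → ¬ X ≤ X' → ∃ x, zpowers x ∈ D ∧ x ∈ X ∧ x ∉ X' := fun e n => by
    by_contra! k
    refine n (e.ge.trans (dg_le_of fun A hA a => ?_))
    obtain ⟨x, rfl⟩ := h.zp hA
    exact zpowers_le.2 (k x hA (a (mem_zpowers x)))
  obtain ⟨x0, hx0, -, -⟩ := out (X' := ⊥) h.gen fun e => ng (IsPGroup.of_bot.to_le ((dr_le _).trans e))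
  have hb := h.alt' hx0
  obtain ⟨g, d1⟩ := h.one hx0
  obtain ⟨Y, m, c⟩ := h.mx ng hx0 (h.pt hx0 g)
  have a0 : x0 ∈ Y := c (mem_sup_left (mem_zpowers _))
  have sY := h.sb m.gen m.ne
  have hd := h.sq1 sY hx0 (zpowers_le.2 a0) (h.pcm' hx0 a0 (c (mem_sup_right (mem_zpowers _))))
  generalize ⁅g, x0⁆ * ⁅g, x0⁆ = d at d1 hd
  obtain ⟨y, hy, -, b⟩ := out h.gen fun e => m.ne (top_le_iff.1 e)
  obtain ⟨r, r1, -, r2, w1⟩ := h.lt ng m hx0 a0 hd d1 hy b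
  obtain ⟨Y', m', c'⟩ := h.mx ng hy (h.pt hy d)
  have b' : y ∈ Y' := c' (mem_sup_left (mem_zpowers _))
  replace r1 := dr_mono c' r1
  have hw := h.sq1 (h.sb m'.gen m'.ne) hy (zpowers_le.2 b') r1
  have rn := h.cn m hx0 hd d1 r2
  obtain ⟨x, hx, a, a'⟩ := out m.gen fun e => b (m.eq m' e ▸ b')
  obtain ⟨s, s0, s2, s3, s4⟩ := h.lt ng m' hy b' hw w1 hx a'
  have s1 := dr_mono (sup_le (zpowers_le.2 a) (zpowers_le.2 (conj_mem (mul_mem rn rn) a))) s0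
  have cm : ∀ u ∈ dr Y, Commute u (r * r) → Commute u r := fun u hu k => commutatorElement_eq_one_iff_commute.1
    (h.dis ng m m' (fun e => b (e b')) hx a hy b'
      (by rw [commutatorElement_def, mul_assoc, mul_assoc, ← mul_assoc r]
          exact mul_mem hu (conj_mem (n_dr le_rfl rn) (inv_mem hu)))
      (mul_mem (conj_mem (n_dr le_rfl (h.cn m' hy hw w1 k)) r1) (inv_mem r1)))
  have c1 := cm s s1 s3
  obtain ⟨v, v1, v2⟩ := h.ptr' hx a (conj_mem rn a)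
  have c2 : Commute v s := by
    have e := h.cen hb sY (commutator_mem_commutator (inv_mem v1) s1) _
      (mul_mem (mul_mem (dr_le _ s1) a) (inv_mem (dr_le _ s1)))
    have c : v⁻¹ * r ∈ 𝒞(zpowers x ⊔ zpowers (r * r * x * (r * r)⁻¹)) := (cent_sup _ _).ge <| mem_inf.2 ⟨mem_cz.2 (by
      calc v⁻¹ * r * x = v⁻¹ * (r * x * r⁻¹) * r := by group
        _ = _ := by rw [← v2]; group), mem_cz.2 (by
      rw [← s2]
      calc v⁻¹ * r * (s * x * s⁻¹) = v⁻¹ * (s * r) * x * s⁻¹ := by rw [c1.eq]; group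
        _ = v⁻¹ * s * (r * x * r⁻¹) * (r * s⁻¹) := by group
        _ = ⁅v⁻¹, s⁆ * (s * x * s⁻¹) * (s * v⁻¹ * (s⁻¹ * r)) := by
          rw [← v2, c1.inv_left.eq]; simp only [commutatorElement_def]; group
        _ = _ := by rw [← e]; simp only [commutatorElement_def]; group)⟩
    have := (show Commute s (v⁻¹ * r) from c s (dr_le _ s0)).mul_right c1.inv_right
    rw [mul_inv_cancel_right] at this
    exact Commute.inv_right_iff.1 this |>.symm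
  have hz := h.pst sY hx a (mul_mem (inv_mem s1) (mul_mem (conj_mem (n_dr le_rfl rn) v1) v1)) (by
    calc s⁻¹ * (r * v * r⁻¹ * v) * x = s⁻¹ * (r * v * r⁻¹) * (v * x * v⁻¹) * v := by group
      _ = s⁻¹ * (r * v * r⁻¹) * (r * x * r⁻¹) * v := by rw [v2]
      _ = s⁻¹ * r * (v * x * v⁻¹) * (v * r⁻¹ * v) := by group
      _ = s⁻¹ * (r * r * x * (r * r)⁻¹) * (r * v * r⁻¹ * v) := by rw [v2]; group
      _ = _ := by rw [← s2]; group)
  have z2 := h.sq2 hb sY hx (zpowers_le.2 a) hz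
  have z3 := h.cen hb sY hz
  have e0 : r * v * r⁻¹ = s * (s⁻¹ * (r * v * r⁻¹ * v)) * v⁻¹ := by group
  generalize s⁻¹ * (r * v * r⁻¹ * v) = z at z2 z3 e0
  have a2 := h.sq2 hb sY hx (zpowers_le.2 a) (h.sq1 sY hx (zpowers_le.2 a) s1)
  have b2 := h.sq2 hb sY hx (zpowers_le.2 a) (h.sq1 sY hx (zpowers_le.2 a) v1)
  have e1 : r * (v * v) * r⁻¹ = s * s * (v * v) := by
    have z4 : Commute s z := z3 s (dr_le _ s1)
    have z5 : Commute v⁻¹ z := z3 _ (inv_mem (dr_le _ v1))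
    calc _ = s * z * (v⁻¹ * s) * z * v⁻¹ := by rw [← conj_mul, e0]; group
      _ = s * (z * s) * (v⁻¹ * z) * v⁻¹ := by rw [c2.inv_left.eq]; group
      _ = s * s * (z * z) * (v * v)⁻¹ := by rw [← z4.eq, z5.eq]; group
      _ = _ := by rw [z2, mul_one, inv_eq_of_mul_eq_one_right b2]
  have e2 : r * (s * s) * r⁻¹ = s * s := by rw [← (c1.mul_left c1).eq, mul_inv_cancel_right]
  have c3 := cm _ (mul_mem v1 v1) (Commute.symm (mul_inv_eq_iff_eq_mul.1 (by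
    calc r * r * (v * v) * (r * r)⁻¹ = r * (r * (v * v) * r⁻¹) * r⁻¹ := by group
      _ = _ := by rw [e1, ← conj_mul, e1, e2, ← mul_assoc, a2, one_mul])))
  rw [← c3.eq, mul_inv_cancel_right] at e1
  exact s4 (mul_eq_right.1 e1.symm)

end Min

end CL.FS2
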