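/-
F-sets for every prime (helper46, S3617): the derived subgroup of the group generated by the members is a `q`-group.
-/
import Cfsg.Agent.FSet2.An

set_option autoImplicit false

open Cfsg Subgroup CL.Grp CL.Even Function
open CL.FSet hiding Hyp Min Mx Cx exists_mx key not_cx main main_aux
open scoped commutatorElement Pointwise

namespace CL.FS2

universe u

variable {G G' : Type*} [Group G] [Group G'] {p q : ℕ} {D : Set (Subgroup G)}

theorem Hyp.comap (h : Hyp p q D) {f : G' →* G} (hf : Injective f) : Hyp p q {A | A.map f ∈ D} where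
  pp := h.pp
  qp := h.qp
  p2 := h.p2
  pq := h.pq
  card A hA := (card_map_of_injective hf).symm.trans (h.card _ hA)
  inv A hA g := show _ ∈ D from map_cj f g A ▸ h.inv _ hA _
  lq A hA B hB := ((h.lq _ hA _ hB).comap_of_injective f hf).to_le (by rw [← Subgroup.map_sup, ← map_dr]; exact le_comap_map _ _)
  lc A hA B hB := by
    obtain ⟨k, k1, k2⟩ := h.lc _ hA _ hB
    rw [← Subgroup.map_sup, ← map_dr] at k1
    obtain ⟨k, k1, rfl⟩ := k1
    exact ⟨k, k1, map_injective hf ((map_cj f k A).trans k2)⟩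
  alt := h.alt.imp (fun k A hA B hB => (map_eq_bot_iff_of_injective _ hf).1 (by
    rw [map_dr, map_dr, Subgroup.map_sup]; exact k _ hA _ hB)) fun k A hA Q hQ n =>
      commutator_eq_bot_iff'.1 ((map_eq_bot_iff_of_injective _ hf).1 (by
        rw [map_commutator, map_dr, map_commutator, commutator_eq_bot_iff']
        exact k _ hA _ (hQ.map f) ((map_mono n).trans (le_normalizer_map f))))
  sq e A hA B hB u hu x hx := hf (by
    have := h.sq e _ hA _ hB (f u) (by rw [← Subgroup.map_sup, ← map_dr]; exact mem_map_of_mem f hu) _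
      (mem_map_of_mem f hx)
    simpa using this)
  nc A hA g hg x hx := hf (by
    have l : dg {A | A.map f ∈ D} ⊤ ≤ (dg D ⊤).comap f := dg_le_of fun B hB _ =>
      map_le_iff_le_comap.1 (le_dg hB le_top)
    have := h.nc _ hA (mem_inf.2 ⟨l hg.1, le_normalizer_map f (mem_map_of_mem f hg.2)⟩) _ (mem_map_of_mem f hx)
    simpa using this)

theorem Hyp.map [Finite G] (h : Hyp p q D) {f : G →* G'} (hf : Surjective f)
    (k : IsPGroup q f.ker ∨ f.ker ≤ center G) (d : ∀ A ∈ D, Disjoint A f.ker) : Hyp p q (map f '' D) where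
  pp := h.pp
  qp := h.qp
  p2 := h.p2
  pq := h.pq
  card := by
    rintro _ ⟨A, hA, rfl⟩
    have e := card_dvd_of_surjective _ (f.subgroupMap_surjective A)
    rw [h.card A hA] at e
    refine ((Nat.dvd_prime h.pp).1 e).resolve_left fun j => ?_
    obtain ⟨a, ha, a1⟩ := h.ex hA
    exact a1 (disjoint_def.1 (d A hA) ha ((Subgroup.map_eq_bot_iff _).1 (eq_bot_of_card_eq _ j) ha))
  inv := by
    rintro _ ⟨A, hA, rfl⟩ g
    obtain ⟨g, rfl⟩ := hf g
    exact ⟨_, h.inv A hA g, map_cj f g A⟩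
  lq := by
    rintro _ ⟨A, hA, rfl⟩ _ ⟨B, hB, rfl⟩
    rw [← Subgroup.map_sup, ← map_dr]
    exact (h.lq A hA B hB).map f
  lc := by
    rintro _ ⟨A, hA, rfl⟩ _ ⟨B, hB, rfl⟩
    obtain ⟨k, k1, k2⟩ := h.lc _ hA _ hB
    exact ⟨f k, by rw [← Subgroup.map_sup, ← map_dr]; exact mem_map_of_mem f k1, by rw [← map_cj, k2]⟩
  alt := h.alt.imp (fun k => by
    rintro _ ⟨A, hA, rfl⟩ _ ⟨B, hB, rfl⟩
    rw [← Subgroup.map_sup, ← map_dr, ← map_dr, k A hA B hB, Subgroup.map_bot]) fun hb => by
      rintro _ ⟨A, hA, rfl⟩ Q hQ n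
      rw [← commutator_eq_bot_iff', ← lift h.qp hf k hQ, ← map_commutator, ← map_dr, ← map_commutator,
        commutator_eq_bot_iff'.2 (hb A hA _ (core_isP _) (le_norm_core ((le_comap_map f A).trans
          ((comap_mono n).trans (le_normalizer_comap f))))), Subgroup.map_bot]
  sq e := by
    rintro _ ⟨A, hA, rfl⟩ _ ⟨B, hB, rfl⟩ u hu _ ⟨x, hx, rfl⟩
    rw [← Subgroup.map_sup, ← map_dr] at hu
    obtain ⟨u, hu, rfl⟩ := hu
    simpa using congrArg f (h.sq e A hA B hB u hu x hx)
  nc := by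
    rintro _ ⟨A, hA, rfl⟩ g hg _ ⟨x, hx, rfl⟩
    have l : dg (Subgroup.map f '' D) ⊤ ≤ (dg D ⊤).map f := dg_le_of (by
      rintro _ ⟨B, hB, rfl⟩ -
      exact map_mono (le_dg hB le_top))
    obtain ⟨g, g1, rfl⟩ := l hg.1
    obtain ⟨w, w1, w2⟩ := h.lc A hA _ (h.inv A hA g)
    have e : f w = 1 := by
      have := mem_map_of_mem f w1
      rw [map_dr, Subgroup.map_sup, map_cj, cj_eq hg.2, sup_idem, ← map_dr, dr,
        commutator_eq_bot_iff'.2 (h.comm hA), Subgroup.map_bot] at this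
      exact this
    have := h.nc A hA (mem_inf.2 ⟨mul_mem (inv_mem (sup_le (le_dg hA le_top) (le_dg (h.inv A hA g) le_top)
      (dr_le _ w1))) g1, by rw [← cj_eq_iff_mem, cj_mul, ← w2, cj_inv_cj]⟩) x hx
    simpa [e] using congrArg f this

theorem main_aux (n : ℕ) : ∀ (G : Type u) [Group G] [Finite G] (D : Set (Subgroup G)), Nat.card G = n → Hyp p 2 D →
    dg D ⊤ = ⊤ → IsPGroup 2 (dr (⊤ : Subgroup G)) := by
  induction n using Nat.strong_induction_on with | _ n ih => ?_
  intro G _ _ D hn h e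
  by_contra ng
  have one : ∀ A ∈ D, ¬ dr ⊤ ≤ 𝒩(A) := fun A hA k => ng (IsPGroup.of_bot.to_le
    ((dr_mono (e.ge.trans (dg_le_of fun B hB _ => let ⟨_, k1, k2⟩ := h.tr hA hB le_top le_top
      k2 ▸ (cj_eq (k k1)).le))).trans (commutator_eq_bot_iff'.2 (h.comm hA)).le))
  have quo : ∀ (N : Subgroup G) [N.Normal], N ≠ ⊥ → (IsPGroup 2 N ∨ N ≤ center G) → (∀ A ∈ D, Disjoint A N) →
      IsPGroup 2 (dr (⊤ : Subgroup (G ⧸ N))) := fun N _ k1 k2 k3 =>
    ih _ (hn ▸ card_quotient_lt k1) _ _ rfl (h.map (QuotientGroup.mk'_surjective N)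
      (by rwa [QuotientGroup.ker_mk']) (by rwa [QuotientGroup.ker_mk'])) (dg_map e (QuotientGroup.mk'_surjective N))
  have le : ∀ (N : Subgroup G) [N.Normal], dr ⊤ ≤ (dr ⊤).comap (QuotientGroup.mk' N) := fun N _ =>
    map_le_iff_le_comap.1 ((map_dr _ _).le.trans (dr_mono le_top))
  have oq : ∀ U : Subgroup G, IsPGroup 2 U → 𝒩(U) = ⊤ → U = ⊥ := fun U hU n => by
    by_contra k
    have := normal_iff_top_le.2 n.ge
    exact ng (((quo U k (.inl hU) fun A hA => h.disj hA h.qp h.pq hU).comap_of_ker_isPGroup _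
      (by rwa [QuotientGroup.ker_mk'])).to_le (le U))
  refine Min.false ⟨h, e, fun H k => ?_, oq, ?_⟩ ng
  · have := ih _ (hn ▸ card_lt_of_ne_top (ne_top_of_le_ne_top k (dg_le (D := D)))) _ _ rfl
      (h.comap (dg D H).subtype_injective) (top_le_iff.1 (map_subtype_le_map_subtype.1 ?_))
    · have := this.map (dg D H).subtype
      rwa [map_dr, ← MonoidHom.range_eq_map, range_subtype] at this
    rw [← MonoidHom.range_eq_map, range_subtype]
    refine dg_le_of fun A hA a => (map_subgroupOf_eq_of_le (le_dg hA a)).ge.trans (map_mono (le_dg ?_ le_top))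
    rwa [Set.mem_setOf_eq, map_subgroupOf_eq_of_le (le_dg hA a)]
  by_contra k
  have hQ := quo _ k (.inr le_rfl) fun A hA => disjoint_def.2 fun {a} a1 a2 => by
    by_contra a0
    exact one A hA fun g _ => cent_le_norm A fun x hx => (mem_center_iff.1 (h.le_of_mem hA a1 a0 a2 hx) g).symm
  have l := lift h.qp (QuotientGroup.mk'_surjective _) (.inr (QuotientGroup.ker_mk' _).le) hQ
  rw [oq _ (core_isP _) (top_le_iff.1 (le_norm_core le_normalizer_of_normal)), Subgroup.map_bot] at l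
  have l1 := le (center G)
  rw [← l, MonoidHom.comap_bot, QuotientGroup.ker_mk'] at l1
  obtain ⟨A, hA⟩ : D.Nonempty := by
    by_contra k
    refine ng (IsPGroup.of_bot.to_le ((dr_le _).trans (e.ge.trans (dg_le_of fun A a _ => absurd ⟨A, a⟩ k))))
  exact one A hA (l1.trans ((center_le_centralizer _).trans (cent_le_norm _)))

theorem main_top [Finite G] (h : Hyp p q D) (e : dg D ⊤ = ⊤) : IsPGroup q (dr (⊤ : Subgroup G)) := by
  by_cases k : q = 2
  · subst k
    exact main_aux _ G D rfl h e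
  · exact CL.FSet.main ⟨h.pp, h.qp, h.p2, k, h.pq, h.card, h.inv, h.lq, h.lc, h.alt⟩ e

/-- the derived subgroup of the group generated by the members is a `q`-group -/
theorem main [Finite G] (h : Hyp p q D) : IsPGroup q (dr (dg D ⊤)) := by
  have := main_top (h.comap (dg D ⊤).subtype_injective) (top_le_iff.1 (map_subtype_le_map_subtype.1 ?_))
  · have := this.map (dg D ⊤).subtype
    rwa [map_dr, ← MonoidHom.range_eq_map, range_subtype] at this
  rw [← MonoidHom.range_eq_map, range_subtype]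
  refine dg_le_of fun A hA a => (map_subgroupOf_eq_of_le (le_dg hA a)).ge.trans (map_mono (le_dg ?_ le_top))
  rwa [Set.mem_setOf_eq, map_subgroupOf_eq_of_le (le_dg hA a)]

end CL.FS2
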